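import Cfsg.Agent.Helper28.HEK.Data

set_option autoImplicit false

namespace Cfsg.Agent.Helper28.HEK

theorem fin_32 : Cfsg.Agent.Helper28.ptChunk (Cfsg.Agent.Helper28.finPt D 49980 lv T ftp ftc) 49980 1024 32 = true := by decide +kernel

theorem fin_33 : Cfsg.Agent.Helper28.ptChunk (Cfsg.Agent.Helper28.finPt D 49980 lv T ftp ftc) 49980 1024 33 = true := by decide +kernel

theorem fin_34 : Cfsg.Agent.Helper28.ptChunk (Cfsg.Agent.Helper28.finPt D 49980 lv T ftp ftc) 49980 1024 34 = true := by decide +kernel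

theorem fin_35 : Cfsg.Agent.Helper28.ptChunk (Cfsg.Agent.Helper28.finPt D 49980 lv T ftp ftc) 49980 1024 35 = true := by decide +kernel

theorem fin_36 : Cfsg.Agent.Helper28.ptChunk (Cfsg.Agent.Helper28.finPt D 49980 lv T ftp ftc) 49980 1024 36 = true := by decide +kernel

theorem fin_37 : Cfsg.Agent.Helper28.ptChunk (Cfsg.Agent.Helper28.finPt D 49980 lv T ftp ftc) 49980 1024 37 = true := by decide +kernel

theorem fin_38 : Cfsg.Agent.Helper28.ptChunk (Cfsg.Agent.Helper28.finPt D 49980 lv T ftp ftc) 49980 1024 38 = true := by decide +kernel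

theorem fin_39 : Cfsg.Agent.Helper28.ptChunk (Cfsg.Agent.Helper28.finPt D 49980 lv T ftp ftc) 49980 1024 39 = true := by decide +kernel

end Cfsg.Agent.Helper28.HEK
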