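import Cfsg.Agent.Helper28.HEK.Data

set_option autoImplicit false

namespace Cfsg.Agent.Helper28.HEK

theorem rows_96 : Cfsg.Agent.Helper28.ptChunk (Cfsg.Agent.Helper28.rowChk D) 50456 512 96 = true := by decide +kernel

theorem rows_97 : Cfsg.Agent.Helper28.ptChunk (Cfsg.Agent.Helper28.rowChk D) 50456 512 97 = true := by decide +kernel

theorem rows_98 : Cfsg.Agent.Helper28.ptChunk (Cfsg.Agent.Helper28.rowChk D) 50456 512 98 = true := by decide +kernel

end Cfsg.Agent.Helper28.HEK
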