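import Cfsg.Agent.Helper28.HEK.Rows0
import Cfsg.Agent.Helper28.HEK.Rows1
import Cfsg.Agent.Helper28.HEK.Rows2
import Cfsg.Agent.Helper28.HEK.Rows3
import Cfsg.Agent.Helper28.HEK.Rows4
import Cfsg.Agent.Helper28.HEK.Rows5
import Cfsg.Agent.Helper28.HEK.Rows6
import Cfsg.Agent.Helper28.HEK.Rows7
import Cfsg.Agent.Helper28.HEK.Rows8
import Cfsg.Agent.Helper28.HEK.Rows9
import Cfsg.Agent.Helper28.HEK.Rows10
import Cfsg.Agent.Helper28.HEK.Rows11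
import Cfsg.Agent.Helper28.HEK.Rows12
import Cfsg.Agent.Helper28.HEK.Fin0
import Cfsg.Agent.Helper28.HEK.Fin1
import Cfsg.Agent.Helper28.HEK.Fin2
import Cfsg.Agent.Helper28.HEK.Fin3
import Cfsg.Agent.Helper28.HEK.Fin4
import Cfsg.Agent.Helper28.HEK.Fin5
import Cfsg.Agent.Helper28.HEK.Fin6
import Cfsg.Agent.Helper28.HEK.Rel0
import Cfsg.Agent.Helper28.HEK.Rel1
import Cfsg.Agent.Helper28.HEK.Rel2
import Cfsg.Agent.Helper28.HEK.Rel3
import Cfsg.Agent.Helper28.HEK.Rel4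
import Cfsg.Agent.Helper28.HEK.Rel5
import Cfsg.Agent.Helper28.HEK.Rel6
import Cfsg.Agent.Helper28.HEK.Rel7
import Cfsg.Agent.Helper28.HEK.Rel8
import Cfsg.Agent.Helper28.HEK.Rel9
import Cfsg.Agent.Helper28.HEK.Rel10
import Cfsg.Agent.Helper28.HEK.Rel11
import Cfsg.Agent.Helper28.HEK.Rel12
import Cfsg.Agent.Helper28.HEK.Rel13
import Cfsg.Agent.Helper28.HEK.Rel14
import Cfsg.Agent.Helper28.HEK.Rel15
import Cfsg.Agent.Helper28.HEK.Rel16
import Cfsg.Agent.Helper28.HEK.Rel17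
import Cfsg.Agent.Helper28.HEK.Rel18
import Cfsg.Agent.Helper28.HEK.Rel19
import Cfsg.Agent.Helper28.HEK.Rel20
import Cfsg.Agent.Helper28.HEK.Rel21
import Cfsg.Agent.Helper28.HEK.Rel22
import Cfsg.Agent.Helper28.HEK.Rel23
import Cfsg.Agent.Helper28.HEK.Rel24

set_option autoImplicit false

namespace Cfsg.Agent.Helper28.HEK

theorem rows_all : ∀ x, x < 50456 → Cfsg.Agent.Helper28.rowChk D x = true :=
  Cfsg.Agent.Helper28.pts_of_chunks _ 50456 512 99 (by decide) (by decide)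
    (Cfsg.Agent.Helper28.allLt_succ _ 98 (Cfsg.Agent.Helper28.allLt_succ _ 97 (Cfsg.Agent.Helper28.allLt_succ _ 96 (Cfsg.Agent.Helper28.allLt_succ _ 95 (Cfsg.Agent.Helper28.allLt_succ _ 94 (Cfsg.Agent.Helper28.allLt_succ _ 93 (Cfsg.Agent.Helper28.allLt_succ _ 92 (Cfsg.Agent.Helper28.allLt_succ _ 91 (Cfsg.Agent.Helper28.allLt_succ _ 90 (Cfsg.Agent.Helper28.allLt_succ _ 89 (Cfsg.Agent.Helper28.allLt_succ _ 88 (Cfsg.Agent.Helper28.allLt_succ _ 87 (Cfsg.Agent.Helper28.allLt_succ _ 86 (Cfsg.Agent.Helper28.allLt_succ _ 85 (Cfsg.Agent.Helper28.allLt_succ _ 84 (Cfsg.Agent.Helper28.allLt_succ _ 83 (Cfsg.Agent.Helper28.allLt_succ _ 82 (Cfsg.Agent.Helper28.allLt_succ _ 81 (Cfsg.Agent.Helper28.allLt_succ _ 80 (Cfsg.Agent.Helper28.allLt_succ _ 79 (Cfsg.Agent.Helper28.allLt_succ _ 78 (Cfsg.Agent.Helper28.allLt_succ _ 77 (Cfsg.Agent.Helper28.allLt_succ _ 76 (Cfsg.Agent.Helper28.allLt_succ _ 75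 (Cfsg.Agent.Helper28.allLt_succ _ 74 (Cfsg.Agent.Helper28.allLt_succ _ 73 (Cfsg.Agent.Helper28.allLt_succ _ 72 (Cfsg.Agent.Helper28.allLt_succ _ 71 (Cfsg.Agent.Helper28.allLt_succ _ 70 (Cfsg.Agent.Helper28.allLt_succ _ 69 (Cfsg.Agent.Helper28.allLt_succ _ 68 (Cfsg.Agent.Helper28.allLt_succ _ 67 (Cfsg.Agent.Helper28.allLt_succ _ 66 (Cfsg.Agent.Helper28.allLt_succ _ 65 (Cfsg.Agent.Helper28.allLt_succ _ 64 (Cfsg.Agent.Helper28.allLt_succ _ 63 (Cfsg.Agent.Helper28.allLt_succ _ 62 (Cfsg.Agent.Helper28.allLt_succ _ 61 (Cfsg.Agent.Helper28.allLt_succ _ 60 (Cfsg.Agent.Helper28.allLt_succ _ 59 (Cfsg.Agent.Helper28.allLt_succ _ 58 (Cfsg.Agent.Helper28.allLt_succ _ 57 (Cfsg.Agent.Helper28.allLt_succ _ 56 (Cfsg.Agent.Helper28.allLt_succ _ 55 (Cfsg.Agent.Helper28.allLt_succ _ 54 (Cfsg.Agent.Helper28.allLt_succ _ 53 (Cfsg.Agent.Helper28.allLt_succ _ 52 (Cfsg.Agent.Helper28.allLt_succ _ 51 (Cfsg.Agent.Helper28.allLt_succ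 _ 50 (Cfsg.Agent.Helper28.allLt_succ _ 49 (Cfsg.Agent.Helper28.allLt_succ _ 48 (Cfsg.Agent.Helper28.allLt_succ _ 47 (Cfsg.Agent.Helper28.allLt_succ _ 46 (Cfsg.Agent.Helper28.allLt_succ _ 45 (Cfsg.Agent.Helper28.allLt_succ _ 44 (Cfsg.Agent.Helper28.allLt_succ _ 43 (Cfsg.Agent.Helper28.allLt_succ _ 42 (Cfsg.Agent.Helper28.allLt_succ _ 41 (Cfsg.Agent.Helper28.allLt_succ _ 40 (Cfsg.Agent.Helper28.allLt_succ _ 39 (Cfsg.Agent.Helper28.allLt_succ _ 38 (Cfsg.Agent.Helper28.allLt_succ _ 37 (Cfsg.Agent.Helper28.allLt_succ _ 36 (Cfsg.Agent.Helper28.allLt_succ _ 35 (Cfsg.Agent.Helper28.allLt_succ _ 34 (Cfsg.Agent.Helper28.allLt_succ _ 33 (Cfsg.Agent.Helper28.allLt_succ _ 32 (Cfsg.Agent.Helper28.allLt_succ _ 31 (Cfsg.Agent.Helper28.allLt_succ _ 30 (Cfsg.Agent.Helper28.allLt_succ _ 29 (Cfsg.Agent.Helper28.allLt_succ _ 28 (Cfsg.Agent.Helper28.allLt_succ _ 27 (Cfsg.Agent.Helper28.allLt_succ _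 26 (Cfsg.Agent.Helper28.allLt_succ _ 25 (Cfsg.Agent.Helper28.allLt_succ _ 24 (Cfsg.Agent.Helper28.allLt_succ _ 23 (Cfsg.Agent.Helper28.allLt_succ _ 22 (Cfsg.Agent.Helper28.allLt_succ _ 21 (Cfsg.Agent.Helper28.allLt_succ _ 20 (Cfsg.Agent.Helper28.allLt_succ _ 19 (Cfsg.Agent.Helper28.allLt_succ _ 18 (Cfsg.Agent.Helper28.allLt_succ _ 17 (Cfsg.Agent.Helper28.allLt_succ _ 16 (Cfsg.Agent.Helper28.allLt_succ _ 15 (Cfsg.Agent.Helper28.allLt_succ _ 14 (Cfsg.Agent.Helper28.allLt_succ _ 13 (Cfsg.Agent.Helper28.allLt_succ _ 12 (Cfsg.Agent.Helper28.allLt_succ _ 11 (Cfsg.Agent.Helper28.allLt_succ _ 10 (Cfsg.Agent.Helper28.allLt_succ _ 9 (Cfsg.Agent.Helper28.allLt_succ _ 8 (Cfsg.Agent.Helper28.allLt_succ _ 7 (Cfsg.Agent.Helper28.allLt_succ _ 6 (Cfsg.Agent.Helper28.allLt_succ _ 5 (Cfsg.Agent.Helper28.allLt_succ _ 4 (Cfsg.Agent.Helper28.allLt_succ _ 3 (Cfsg.Agent.Helper28.allLt_succ _ 2 (Cfsg.Agent.Helper28.allLt_succ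 _ 1 (Cfsg.Agent.Helper28.allLt_succ _ 0 (Cfsg.Agent.Helper28.allLt_zero _) rows_0) rows_1) rows_2) rows_3) rows_4) rows_5) rows_6) rows_7) rows_8) rows_9) rows_10) rows_11) rows_12) rows_13) rows_14) rows_15) rows_16) rows_17) rows_18) rows_19) rows_20) rows_21) rows_22) rows_23) rows_24) rows_25) rows_26) rows_27) rows_28) rows_29) rows_30) rows_31) rows_32) rows_33) rows_34) rows_35) rows_36) rows_37) rows_38) rows_39) rows_40) rows_41) rows_42) rows_43) rows_44) rows_45) rows_46) rows_47) rows_48) rows_49) rows_50) rows_51) rows_52) rows_53) rows_54) rows_55) rows_56) rows_57) rows_58) rows_59) rows_60) rows_61) rows_62) rows_63) rows_64) rows_65) rows_66) rows_67) rows_68) rows_69) rows_70) rows_71) rows_72) rows_73) rows_74) rows_75) rows_76) rows_77) rows_78) rows_79) rows_80) rows_81) rows_82) rows_83) rows_84) rows_85) rows_86) rows_87) rows_88) rows_89) rows_90) rows_91)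 rows_92) rows_93) rows_94) rows_95) rows_96) rows_97) rows_98)

theorem fin_all : ∀ i, i < 49980 → Cfsg.Agent.Helper28.finPt D 49980 lv T ftp ftc i = true :=
  Cfsg.Agent.Helper28.pts_of_chunks _ 49980 1024 49 (by decide) (by decide)
    (Cfsg.Agent.Helper28.allLt_succ _ 48 (Cfsg.Agent.Helper28.allLt_succ _ 47 (Cfsg.Agent.Helper28.allLt_succ _ 46 (Cfsg.Agent.Helper28.allLt_succ _ 45 (Cfsg.Agent.Helper28.allLt_succ _ 44 (Cfsg.Agent.Helper28.allLt_succ _ 43 (Cfsg.Agent.Helper28.allLt_succ _ 42 (Cfsg.Agent.Helper28.allLt_succ _ 41 (Cfsg.Agent.Helper28.allLt_succ _ 40 (Cfsg.Agent.Helper28.allLt_succ _ 39 (Cfsg.Agent.Helper28.allLt_succ _ 38 (Cfsg.Agent.Helper28.allLt_succ _ 37 (Cfsg.Agent.Helper28.allLt_succ _ 36 (Cfsg.Agent.Helper28.allLt_succ _ 35 (Cfsg.Agent.Helper28.allLt_succ _ 34 (Cfsg.Agent.Helper28.allLt_succ _ 33 (Cfsg.Agent.Helper28.allLt_succ _ 32 (Cfsg.Agent.Helper28.allLt_succ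 _ 31 (Cfsg.Agent.Helper28.allLt_succ _ 30 (Cfsg.Agent.Helper28.allLt_succ _ 29 (Cfsg.Agent.Helper28.allLt_succ _ 28 (Cfsg.Agent.Helper28.allLt_succ _ 27 (Cfsg.Agent.Helper28.allLt_succ _ 26 (Cfsg.Agent.Helper28.allLt_succ _ 25 (Cfsg.Agent.Helper28.allLt_succ _ 24 (Cfsg.Agent.Helper28.allLt_succ _ 23 (Cfsg.Agent.Helper28.allLt_succ _ 22 (Cfsg.Agent.Helper28.allLt_succ _ 21 (Cfsg.Agent.Helper28.allLt_succ _ 20 (Cfsg.Agent.Helper28.allLt_succ _ 19 (Cfsg.Agent.Helper28.allLt_succ _ 18 (Cfsg.Agent.Helper28.allLt_succ _ 17 (Cfsg.Agent.Helper28.allLt_succ _ 16 (Cfsg.Agent.Helper28.allLt_succ _ 15 (Cfsg.Agent.Helper28.allLt_succ _ 14 (Cfsg.Agent.Helper28.allLt_succ _ 13 (Cfsg.Agent.Helper28.allLt_succ _ 12 (Cfsg.Agent.Helper28.allLt_succ _ 11 (Cfsg.Agent.Helper28.allLt_succ _ 10 (Cfsg.Agent.Helper28.allLt_succ _ 9 (Cfsg.Agent.Helper28.allLt_succ _ 8 (Cfsg.Agent.Helper28.allLt_succ _ 7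 (Cfsg.Agent.Helper28.allLt_succ _ 6 (Cfsg.Agent.Helper28.allLt_succ _ 5 (Cfsg.Agent.Helper28.allLt_succ _ 4 (Cfsg.Agent.Helper28.allLt_succ _ 3 (Cfsg.Agent.Helper28.allLt_succ _ 2 (Cfsg.Agent.Helper28.allLt_succ _ 1 (Cfsg.Agent.Helper28.allLt_succ _ 0 (Cfsg.Agent.Helper28.allLt_zero _) fin_0) fin_1) fin_2) fin_3) fin_4) fin_5) fin_6) fin_7) fin_8) fin_9) fin_10) fin_11) fin_12) fin_13) fin_14) fin_15) fin_16) fin_17) fin_18) fin_19) fin_20) fin_21) fin_22) fin_23) fin_24) fin_25) fin_26) fin_27) fin_28) fin_29) fin_30) fin_31) fin_32) fin_33) fin_34) fin_35) fin_36) fin_37) fin_38) fin_39) fin_40) fin_41) fin_42) fin_43) fin_44) fin_45) fin_46) fin_47) fin_48)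

theorem rel_all : ∀ i, i < 49980 → Cfsg.Agent.Helper28.relPt T relL i = true :=
  Cfsg.Agent.Helper28.pts_of_chunks _ 49980 256 196 (by decide) (by decide)
    (Cfsg.Agent.Helper28.allLt_succ _ 195 (Cfsg.Agent.Helper28.allLt_succ _ 194 (Cfsg.Agent.Helper28.allLt_succ _ 193 (Cfsg.Agent.Helper28.allLt_succ _ 192 (Cfsg.Agent.Helper28.allLt_succ _ 191 (Cfsg.Agent.Helper28.allLt_succ _ 190 (Cfsg.Agent.Helper28.allLt_succ _ 189 (Cfsg.Agent.Helper28.allLt_succ _ 188 (Cfsg.Agent.Helper28.allLt_succ _ 187 (Cfsg.Agent.Helper28.allLt_succ _ 186 (Cfsg.Agent.Helper28.allLt_succ _ 185 (Cfsg.Agent.Helper28.allLt_succ _ 184 (Cfsg.Agent.Helper28.allLt_succ _ 183 (Cfsg.Agent.Helper28.allLt_succ _ 182 (Cfsg.Agent.Helper28.allLt_succ _ 181 (Cfsg.Agent.Helper28.allLt_succ _ 180 (Cfsg.Agent.Helper28.allLt_succ _ 179 (Cfsg.Agent.Helper28.allLt_succ _ 178 (Cfsg.Agent.Helper28.allLt_succ _ 177 (Cfsg.Agent.Helper28.allLt_succ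 _ 176 (Cfsg.Agent.Helper28.allLt_succ _ 175 (Cfsg.Agent.Helper28.allLt_succ _ 174 (Cfsg.Agent.Helper28.allLt_succ _ 173 (Cfsg.Agent.Helper28.allLt_succ _ 172 (Cfsg.Agent.Helper28.allLt_succ _ 171 (Cfsg.Agent.Helper28.allLt_succ _ 170 (Cfsg.Agent.Helper28.allLt_succ _ 169 (Cfsg.Agent.Helper28.allLt_succ _ 168 (Cfsg.Agent.Helper28.allLt_succ _ 167 (Cfsg.Agent.Helper28.allLt_succ _ 166 (Cfsg.Agent.Helper28.allLt_succ _ 165 (Cfsg.Agent.Helper28.allLt_succ _ 164 (Cfsg.Agent.Helper28.allLt_succ _ 163 (Cfsg.Agent.Helper28.allLt_succ _ 162 (Cfsg.Agent.Helper28.allLt_succ _ 161 (Cfsg.Agent.Helper28.allLt_succ _ 160 (Cfsg.Agent.Helper28.allLt_succ _ 159 (Cfsg.Agent.Helper28.allLt_succ _ 158 (Cfsg.Agent.Helper28.allLt_succ _ 157 (Cfsg.Agent.Helper28.allLt_succ _ 156 (Cfsg.Agent.Helper28.allLt_succ _ 155 (Cfsg.Agent.Helper28.allLt_succ _ 154 (Cfsg.Agent.Helper28.allLt_succ _ 153 (Cfsg.Agent.Helper28.allLt_succ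 _ 152 (Cfsg.Agent.Helper28.allLt_succ _ 151 (Cfsg.Agent.Helper28.allLt_succ _ 150 (Cfsg.Agent.Helper28.allLt_succ _ 149 (Cfsg.Agent.Helper28.allLt_succ _ 148 (Cfsg.Agent.Helper28.allLt_succ _ 147 (Cfsg.Agent.Helper28.allLt_succ _ 146 (Cfsg.Agent.Helper28.allLt_succ _ 145 (Cfsg.Agent.Helper28.allLt_succ _ 144 (Cfsg.Agent.Helper28.allLt_succ _ 143 (Cfsg.Agent.Helper28.allLt_succ _ 142 (Cfsg.Agent.Helper28.allLt_succ _ 141 (Cfsg.Agent.Helper28.allLt_succ _ 140 (Cfsg.Agent.Helper28.allLt_succ _ 139 (Cfsg.Agent.Helper28.allLt_succ _ 138 (Cfsg.Agent.Helper28.allLt_succ _ 137 (Cfsg.Agent.Helper28.allLt_succ _ 136 (Cfsg.Agent.Helper28.allLt_succ _ 135 (Cfsg.Agent.Helper28.allLt_succ _ 134 (Cfsg.Agent.Helper28.allLt_succ _ 133 (Cfsg.Agent.Helper28.allLt_succ _ 132 (Cfsg.Agent.Helper28.allLt_succ _ 131 (Cfsg.Agent.Helper28.allLt_succ _ 130 (Cfsg.Agent.Helper28.allLt_succ _ 129 (Cfsg.Agent.Helper28.allLt_succ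 _ 128 (Cfsg.Agent.Helper28.allLt_succ _ 127 (Cfsg.Agent.Helper28.allLt_succ _ 126 (Cfsg.Agent.Helper28.allLt_succ _ 125 (Cfsg.Agent.Helper28.allLt_succ _ 124 (Cfsg.Agent.Helper28.allLt_succ _ 123 (Cfsg.Agent.Helper28.allLt_succ _ 122 (Cfsg.Agent.Helper28.allLt_succ _ 121 (Cfsg.Agent.Helper28.allLt_succ _ 120 (Cfsg.Agent.Helper28.allLt_succ _ 119 (Cfsg.Agent.Helper28.allLt_succ _ 118 (Cfsg.Agent.Helper28.allLt_succ _ 117 (Cfsg.Agent.Helper28.allLt_succ _ 116 (Cfsg.Agent.Helper28.allLt_succ _ 115 (Cfsg.Agent.Helper28.allLt_succ _ 114 (Cfsg.Agent.Helper28.allLt_succ _ 113 (Cfsg.Agent.Helper28.allLt_succ _ 112 (Cfsg.Agent.Helper28.allLt_succ _ 111 (Cfsg.Agent.Helper28.allLt_succ _ 110 (Cfsg.Agent.Helper28.allLt_succ _ 109 (Cfsg.Agent.Helper28.allLt_succ _ 108 (Cfsg.Agent.Helper28.allLt_succ _ 107 (Cfsg.Agent.Helper28.allLt_succ _ 106 (Cfsg.Agent.Helper28.allLt_succ _ 105 (Cfsg.Agent.Helper28.allLt_succ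 _ 104 (Cfsg.Agent.Helper28.allLt_succ _ 103 (Cfsg.Agent.Helper28.allLt_succ _ 102 (Cfsg.Agent.Helper28.allLt_succ _ 101 (Cfsg.Agent.Helper28.allLt_succ _ 100 (Cfsg.Agent.Helper28.allLt_succ _ 99 (Cfsg.Agent.Helper28.allLt_succ _ 98 (Cfsg.Agent.Helper28.allLt_succ _ 97 (Cfsg.Agent.Helper28.allLt_succ _ 96 (Cfsg.Agent.Helper28.allLt_succ _ 95 (Cfsg.Agent.Helper28.allLt_succ _ 94 (Cfsg.Agent.Helper28.allLt_succ _ 93 (Cfsg.Agent.Helper28.allLt_succ _ 92 (Cfsg.Agent.Helper28.allLt_succ _ 91 (Cfsg.Agent.Helper28.allLt_succ _ 90 (Cfsg.Agent.Helper28.allLt_succ _ 89 (Cfsg.Agent.Helper28.allLt_succ _ 88 (Cfsg.Agent.Helper28.allLt_succ _ 87 (Cfsg.Agent.Helper28.allLt_succ _ 86 (Cfsg.Agent.Helper28.allLt_succ _ 85 (Cfsg.Agent.Helper28.allLt_succ _ 84 (Cfsg.Agent.Helper28.allLt_succ _ 83 (Cfsg.Agent.Helper28.allLt_succ _ 82 (Cfsg.Agent.Helper28.allLt_succ _ 81 (Cfsg.Agent.Helper28.allLt_succ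 _ 80 (Cfsg.Agent.Helper28.allLt_succ _ 79 (Cfsg.Agent.Helper28.allLt_succ _ 78 (Cfsg.Agent.Helper28.allLt_succ _ 77 (Cfsg.Agent.Helper28.allLt_succ _ 76 (Cfsg.Agent.Helper28.allLt_succ _ 75 (Cfsg.Agent.Helper28.allLt_succ _ 74 (Cfsg.Agent.Helper28.allLt_succ _ 73 (Cfsg.Agent.Helper28.allLt_succ _ 72 (Cfsg.Agent.Helper28.allLt_succ _ 71 (Cfsg.Agent.Helper28.allLt_succ _ 70 (Cfsg.Agent.Helper28.allLt_succ _ 69 (Cfsg.Agent.Helper28.allLt_succ _ 68 (Cfsg.Agent.Helper28.allLt_succ _ 67 (Cfsg.Agent.Helper28.allLt_succ _ 66 (Cfsg.Agent.Helper28.allLt_succ _ 65 (Cfsg.Agent.Helper28.allLt_succ _ 64 (Cfsg.Agent.Helper28.allLt_succ _ 63 (Cfsg.Agent.Helper28.allLt_succ _ 62 (Cfsg.Agent.Helper28.allLt_succ _ 61 (Cfsg.Agent.Helper28.allLt_succ _ 60 (Cfsg.Agent.Helper28.allLt_succ _ 59 (Cfsg.Agent.Helper28.allLt_succ _ 58 (Cfsg.Agent.Helper28.allLt_succ _ 57 (Cfsg.Agent.Helper28.allLt_succ _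 56 (Cfsg.Agent.Helper28.allLt_succ _ 55 (Cfsg.Agent.Helper28.allLt_succ _ 54 (Cfsg.Agent.Helper28.allLt_succ _ 53 (Cfsg.Agent.Helper28.allLt_succ _ 52 (Cfsg.Agent.Helper28.allLt_succ _ 51 (Cfsg.Agent.Helper28.allLt_succ _ 50 (Cfsg.Agent.Helper28.allLt_succ _ 49 (Cfsg.Agent.Helper28.allLt_succ _ 48 (Cfsg.Agent.Helper28.allLt_succ _ 47 (Cfsg.Agent.Helper28.allLt_succ _ 46 (Cfsg.Agent.Helper28.allLt_succ _ 45 (Cfsg.Agent.Helper28.allLt_succ _ 44 (Cfsg.Agent.Helper28.allLt_succ _ 43 (Cfsg.Agent.Helper28.allLt_succ _ 42 (Cfsg.Agent.Helper28.allLt_succ _ 41 (Cfsg.Agent.Helper28.allLt_succ _ 40 (Cfsg.Agent.Helper28.allLt_succ _ 39 (Cfsg.Agent.Helper28.allLt_succ _ 38 (Cfsg.Agent.Helper28.allLt_succ _ 37 (Cfsg.Agent.Helper28.allLt_succ _ 36 (Cfsg.Agent.Helper28.allLt_succ _ 35 (Cfsg.Agent.Helper28.allLt_succ _ 34 (Cfsg.Agent.Helper28.allLt_succ _ 33 (Cfsg.Agent.Helper28.allLt_succ _ 32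 (Cfsg.Agent.Helper28.allLt_succ _ 31 (Cfsg.Agent.Helper28.allLt_succ _ 30 (Cfsg.Agent.Helper28.allLt_succ _ 29 (Cfsg.Agent.Helper28.allLt_succ _ 28 (Cfsg.Agent.Helper28.allLt_succ _ 27 (Cfsg.Agent.Helper28.allLt_succ _ 26 (Cfsg.Agent.Helper28.allLt_succ _ 25 (Cfsg.Agent.Helper28.allLt_succ _ 24 (Cfsg.Agent.Helper28.allLt_succ _ 23 (Cfsg.Agent.Helper28.allLt_succ _ 22 (Cfsg.Agent.Helper28.allLt_succ _ 21 (Cfsg.Agent.Helper28.allLt_succ _ 20 (Cfsg.Agent.Helper28.allLt_succ _ 19 (Cfsg.Agent.Helper28.allLt_succ _ 18 (Cfsg.Agent.Helper28.allLt_succ _ 17 (Cfsg.Agent.Helper28.allLt_succ _ 16 (Cfsg.Agent.Helper28.allLt_succ _ 15 (Cfsg.Agent.Helper28.allLt_succ _ 14 (Cfsg.Agent.Helper28.allLt_succ _ 13 (Cfsg.Agent.Helper28.allLt_succ _ 12 (Cfsg.Agent.Helper28.allLt_succ _ 11 (Cfsg.Agent.Helper28.allLt_succ _ 10 (Cfsg.Agent.Helper28.allLt_succ _ 9 (Cfsg.Agent.Helper28.allLt_succ _ 8 (Cfsg.Agent.Helper28.allLt_succ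 _ 7 (Cfsg.Agent.Helper28.allLt_succ _ 6 (Cfsg.Agent.Helper28.allLt_succ _ 5 (Cfsg.Agent.Helper28.allLt_succ _ 4 (Cfsg.Agent.Helper28.allLt_succ _ 3 (Cfsg.Agent.Helper28.allLt_succ _ 2 (Cfsg.Agent.Helper28.allLt_succ _ 1 (Cfsg.Agent.Helper28.allLt_succ _ 0 (Cfsg.Agent.Helper28.allLt_zero _) rel_0) rel_1) rel_2) rel_3) rel_4) rel_5) rel_6) rel_7) rel_8) rel_9) rel_10) rel_11) rel_12) rel_13) rel_14) rel_15) rel_16) rel_17) rel_18) rel_19) rel_20) rel_21) rel_22) rel_23) rel_24) rel_25) rel_26) rel_27) rel_28) rel_29) rel_30) rel_31) rel_32) rel_33) rel_34) rel_35) rel_36) rel_37) rel_38) rel_39) rel_40) rel_41) rel_42) rel_43) rel_44) rel_45) rel_46) rel_47) rel_48) rel_49) rel_50) rel_51) rel_52) rel_53) rel_54) rel_55) rel_56) rel_57) rel_58) rel_59) rel_60) rel_61) rel_62) rel_63) rel_64) rel_65) rel_66) rel_67) rel_68) rel_69) rel_70) rel_71) rel_72) rel_73) rel_74) rel_75) rel_76)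 rel_77) rel_78) rel_79) rel_80) rel_81) rel_82) rel_83) rel_84) rel_85) rel_86) rel_87) rel_88) rel_89) rel_90) rel_91) rel_92) rel_93) rel_94) rel_95) rel_96) rel_97) rel_98) rel_99) rel_100) rel_101) rel_102) rel_103) rel_104) rel_105) rel_106) rel_107) rel_108) rel_109) rel_110) rel_111) rel_112) rel_113) rel_114) rel_115) rel_116) rel_117) rel_118) rel_119) rel_120) rel_121) rel_122) rel_123) rel_124) rel_125) rel_126) rel_127) rel_128) rel_129) rel_130) rel_131) rel_132) rel_133) rel_134) rel_135) rel_136) rel_137) rel_138) rel_139) rel_140) rel_141) rel_142) rel_143) rel_144) rel_145) rel_146) rel_147) rel_148) rel_149) rel_150) rel_151) rel_152) rel_153) rel_154) rel_155) rel_156) rel_157) rel_158) rel_159) rel_160) rel_161) rel_162) rel_163) rel_164) rel_165) rel_166) rel_167) rel_168) rel_169) rel_170) rel_171) rel_172) rel_173) rel_174) rel_175) rel_176) rel_177) rel_178)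 rel_179) rel_180) rel_181) rel_182) rel_183) rel_184) rel_185) rel_186) rel_187) rel_188) rel_189) rel_190) rel_191) rel_192) rel_193) rel_194) rel_195)

set_option maxRecDepth 100000 in
theorem wE_0 : Cfsg.Agent.Helper28.WordOf gen (Cfsg.Spor.He.e * ((Cfsg.Spor.He.f * Cfsg.Spor.He.g) ^ 2)⁻¹) [4, 6, 5, 6, 5] := by
  intro K _ v hv
  simp only [map_mul, map_pow, map_inv, FreeGroup.lift_apply_of, mul_inv_rev, inv_pow,
    Cfsg.Agent.Helper28.inv_of_sq _ (hv _), List.map_cons, List.map_nil, List.prod_cons, List.prod_nil, gen,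
    pow_succ, pow_zero, one_mul, mul_one, mul_assoc]

set_option maxRecDepth 100000 in
theorem wE_1 : Cfsg.Agent.Helper28.WordOf gen (Cfsg.Spor.He.e * ((Cfsg.Spor.He.a * Cfsg.Spor.He.b * Cfsg.Spor.He.c) ^ 3)⁻¹) [4, 2, 1, 0, 2, 1, 0, 2, 1, 0] := by
  intro K _ v hv
  simp only [map_mul, map_pow, map_inv, FreeGroup.lift_apply_of, mul_inv_rev, inv_pow,
    Cfsg.Agent.Helper28.inv_of_sq _ (hv _), List.map_cons, List.map_nil, List.prod_cons, List.prod_nil, gen,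
    pow_succ, pow_zero, one_mul, mul_one, mul_assoc]

set_option maxRecDepth 100000 in
theorem wE_2 : Cfsg.Agent.Helper28.WordOf gen (Cfsg.Spor.He.a * ((Cfsg.Spor.He.c * Cfsg.Spor.He.d) ^ 5)⁻¹) [0, 3, 2, 3, 2, 3, 2, 3, 2, 3, 2] := by
  intro K _ v hv
  simp only [map_mul, map_pow, map_inv, FreeGroup.lift_apply_of, mul_inv_rev, inv_pow,
    Cfsg.Agent.Helper28.inv_of_sq _ (hv _), List.map_cons, List.map_nil, List.prod_cons, List.prod_nil, gen,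
    pow_succ, pow_zero, one_mul, mul_one, mul_assoc]

set_option maxRecDepth 100000 in
theorem wE_3 : Cfsg.Agent.Helper28.WordOf gen ((Cfsg.Spor.He.c * Cfsg.Spor.He.d * Cfsg.Spor.He.f * Cfsg.Spor.He.g) ^ 4) [2, 3, 5, 6, 2, 3, 5, 6, 2, 3, 5, 6, 2, 3, 5, 6] := by
  intro K _ v hv
  simp only [map_mul, map_pow, map_inv, FreeGroup.lift_apply_of, mul_inv_rev, inv_pow,
    Cfsg.Agent.Helper28.inv_of_sq _ (hv _), List.map_cons, List.map_nil, List.prod_cons, List.prod_nil, gen,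
    pow_succ, pow_zero, one_mul, mul_one, mul_assoc]

set_option maxRecDepth 100000 in
theorem wS_0 : Cfsg.Agent.Helper28.WordOf gen (Cfsg.Spor.He.a) [0] := by
  intro K _ v hv
  simp only [map_mul, map_pow, map_inv, FreeGroup.lift_apply_of, mul_inv_rev, inv_pow,
    Cfsg.Agent.Helper28.inv_of_sq _ (hv _), List.map_cons, List.map_nil, List.prod_cons, List.prod_nil, gen,
    pow_succ, pow_zero, one_mul, mul_one, mul_assoc]

set_option maxRecDepth 100000 in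
theorem wS_1 : Cfsg.Agent.Helper28.WordOf gen (Cfsg.Spor.He.c) [2] := by
  intro K _ v hv
  simp only [map_mul, map_pow, map_inv, FreeGroup.lift_apply_of, mul_inv_rev, inv_pow,
    Cfsg.Agent.Helper28.inv_of_sq _ (hv _), List.map_cons, List.map_nil, List.prod_cons, List.prod_nil, gen,
    pow_succ, pow_zero, one_mul, mul_one, mul_assoc]

set_option maxRecDepth 100000 in
theorem wS_2 : Cfsg.Agent.Helper28.WordOf gen (Cfsg.Spor.He.d) [3] := by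
  intro K _ v hv
  simp only [map_mul, map_pow, map_inv, FreeGroup.lift_apply_of, mul_inv_rev, inv_pow,
    Cfsg.Agent.Helper28.inv_of_sq _ (hv _), List.map_cons, List.map_nil, List.prod_cons, List.prod_nil, gen,
    pow_succ, pow_zero, one_mul, mul_one, mul_assoc]

set_option maxRecDepth 100000 in
theorem wS_3 : Cfsg.Agent.Helper28.WordOf gen (Cfsg.Spor.He.e) [4] := by
  intro K _ v hv
  simp only [map_mul, map_pow, map_inv, FreeGroup.lift_apply_of, mul_inv_rev, inv_pow,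
    Cfsg.Agent.Helper28.inv_of_sq _ (hv _), List.map_cons, List.map_nil, List.prod_cons, List.prod_nil, gen,
    pow_succ, pow_zero, one_mul, mul_one, mul_assoc]

set_option maxRecDepth 100000 in
theorem wS_4 : Cfsg.Agent.Helper28.WordOf gen (Cfsg.Spor.He.f) [5] := by
  intro K _ v hv
  simp only [map_mul, map_pow, map_inv, FreeGroup.lift_apply_of, mul_inv_rev, inv_pow,
    Cfsg.Agent.Helper28.inv_of_sq _ (hv _), List.map_cons, List.map_nil, List.prod_cons, List.prod_nil, gen,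
    pow_succ, pow_zero, one_mul, mul_one, mul_assoc]

set_option maxRecDepth 100000 in
theorem wS_5 : Cfsg.Agent.Helper28.WordOf gen (Cfsg.Spor.He.g) [6] := by
  intro K _ v hv
  simp only [map_mul, map_pow, map_inv, FreeGroup.lift_apply_of, mul_inv_rev, inv_pow,
    Cfsg.Agent.Helper28.inv_of_sq _ (hv _), List.map_cons, List.map_nil, List.prod_cons, List.prod_nil, gen,
    pow_succ, pow_zero, one_mul, mul_one, mul_assoc]

theorem wE_all : List.Forall₂ (Cfsg.Agent.Helper28.WordOf gen) Cfsg.Spor.He.extra extraL := by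
  unfold Cfsg.Spor.He.extra extraL
  exact List.Forall₂.cons wE_0 (List.Forall₂.cons wE_1 (List.Forall₂.cons wE_2 (List.Forall₂.cons wE_3 (List.Forall₂.nil))))

theorem wSub_l : ∀ l ∈ subL, ∃ s ∈ ({Cfsg.Spor.He.a, Cfsg.Spor.He.c, Cfsg.Spor.He.d, Cfsg.Spor.He.e, Cfsg.Spor.He.f, Cfsg.Spor.He.g} : Set (FreeGroup Cfsg.Spor.He.Gen)), Cfsg.Agent.Helper28.WordOf gen s l := by
  intro l hl
  simp only [subL, List.mem_cons, List.mem_nil_iff, or_false] at hl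
  rcases hl with rfl | rfl | rfl | rfl | rfl | rfl
  · exact ⟨_, by simp only [Set.mem_insert_iff, Set.mem_singleton_iff, true_or, or_true], wS_0⟩
  · exact ⟨_, by simp only [Set.mem_insert_iff, Set.mem_singleton_iff, true_or, or_true], wS_1⟩
  · exact ⟨_, by simp only [Set.mem_insert_iff, Set.mem_singleton_iff, true_or, or_true], wS_2⟩
  · exact ⟨_, by simp only [Set.mem_insert_iff, Set.mem_singleton_iff, true_or, or_true], wS_3⟩
  · exact ⟨_, by simp only [Set.mem_insert_iff, Set.mem_singleton_iff, true_or, or_true], wS_4⟩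
  · exact ⟨_, by simp only [Set.mem_insert_iff, Set.mem_singleton_iff, true_or, or_true], wS_5⟩

theorem wSub_r : ∀ s ∈ ({Cfsg.Spor.He.a, Cfsg.Spor.He.c, Cfsg.Spor.He.d, Cfsg.Spor.He.e, Cfsg.Spor.He.f, Cfsg.Spor.He.g} : Set (FreeGroup Cfsg.Spor.He.Gen)), ∃ l ∈ subL, Cfsg.Agent.Helper28.WordOf gen s l := by
  intro s hs
  simp only [Set.mem_insert_iff, Set.mem_singleton_iff] at hs
  rcases hs with rfl | rfl | rfl | rfl | rfl | rfl
  · exact ⟨_, by simp only [subL, List.mem_cons, List.mem_nil_iff, true_or, or_true], wS_0⟩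
  · exact ⟨_, by simp only [subL, List.mem_cons, List.mem_nil_iff, true_or, or_true], wS_1⟩
  · exact ⟨_, by simp only [subL, List.mem_cons, List.mem_nil_iff, true_or, or_true], wS_2⟩
  · exact ⟨_, by simp only [subL, List.mem_cons, List.mem_nil_iff, true_or, or_true], wS_3⟩
  · exact ⟨_, by simp only [subL, List.mem_cons, List.mem_nil_iff, true_or, or_true], wS_4⟩
  · exact ⟨_, by simp only [subL, List.mem_cons, List.mem_nil_iff, true_or, or_true], wS_5⟩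

/-- The certificate. -/
theorem cert : Cfsg.Agent.Helper28.CoxCert Cfsg.Spor.He.edges Cfsg.Spor.He.extra
    ({Cfsg.Spor.He.a, Cfsg.Spor.He.c, Cfsg.Spor.He.d, Cfsg.Spor.He.e, Cfsg.Spor.He.f, Cfsg.Spor.He.g} : Set (FreeGroup Cfsg.Spor.He.Gen)) gen code D 49980 lv T pairs extraL subL where
  hD := rfl
  hnrel := by decide +kernel
  hcode := by intro x; cases x <;> exact ⟨by decide +kernel, rfl⟩
  hcode2 := by decide +kernel
  hnode := by intro x; cases x <;> decide +kernel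
  hpairs1 := by decide +kernel
  hpairs2 := by decide +kernel
  hextra1 := Cfsg.Agent.Helper28.forall2_right wE_all
  hextra2 := Cfsg.Agent.Helper28.forall2_left wE_all
  hsub1 := wSub_l
  hsub2 := wSub_r
  hletE := by decide +kernel
  hletS := by decide +kernel
  hN := Cfsg.Agent.Helper28.pad_ok D (by decide +kernel)
  hchk := (Cfsg.Agent.Helper28.rows_ok D rows_all).1
  hchkJ := (Cfsg.Agent.Helper28.rows_ok D rows_all).2
  hfin := Cfsg.Agent.Helper28.finSem_of D 49980 lv T ftp ftc fin_all (by decide +kernel)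
  hn := by decide
  hTrel := Cfsg.Agent.Helper28.rel_ok T relL 49980 rel_all
  hTsub := by decide +kernel

end Cfsg.Agent.Helper28.HEK
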